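import Groth.Agent.H21Quot.Basic
import Groth.Agent.H21Diag.Points
import Groth.Agent.H21Diag.DSMap

/-!
# A quotient is determined by its kernel
-/

universe u

open CategoryTheory CategoryTheory.Limits MonoidalCategory CartesianMonoidalCategory MonObj GrpObj
  AlgebraicGeometry

namespace Groth.Agent.H21Quot

variable {S : Scheme.{u}} {G Q Q' H : Over S} [GrpObj G]

theorem eq_one_of_mul_self {A T : Over S} [GrpObj A] (a : T ⟶ A) (h : a * a = a) : a = 1 :=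
  mul_eq_left.mp h

theorem inv_mul_comp_eq_one [GrpObj Q] (q : G ⟶ Q) [IsMonHom q] {T : Over S} (a b : T ⟶ G) :
    (a⁻¹ * b) ≫ q = 1 ↔ a ≫ q = b ≫ q := by
  rw [MonObj.mul_comp, GrpObj.inv_comp, inv_mul_eq_one]

theorem comp_eq_one_iff [GrpObj Q] [GrpObj H] {i : H ⟶ G} {q : G ⟶ Q} [IsMonHom q] (hq : RedSub.IsQuotient i q)
    {T : Over S} (x : T ⟶ G) : x ≫ q = 1 ↔ ∃ n : T ⟶ H, n ≫ i = x := by
  have h := comp_eq_iff hq (1 : T ⟶ G) x
  rw [MonObj.one_comp] at h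
  refine ⟨fun hx => ?_, fun ⟨n, hn⟩ => ?_⟩
  · obtain ⟨n, hn⟩ := h.mp hx.symm
    exact ⟨n, by rw [hn, _root_.one_mul]⟩
  · exact (h.mpr ⟨n, by rw [hn, _root_.one_mul]⟩).symm

/-- Two fppf homomorphisms out of `G` with the same kernel have isomorphic targets. -/
theorem exists_grpIso [GrpObj Q] [GrpObj Q'] (q : G ⟶ Q) [IsMonHom q] [Flat q.left] [Surjective q.left]
    [LocallyOfFinitePresentation q.left] (q' : G ⟶ Q') [IsMonHom q'] [Flat q'.left] [Surjective q'.left]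
    [LocallyOfFinitePresentation q'.left] (h : ∀ (T : Over S) (x : T ⟶ G), x ≫ q = 1 ↔ x ≫ q' = 1) :
    ∃ e : Grp.mk Q ≅ Grp.mk Q', q ≫ e.hom.hom.hom = q' := by
  obtain ⟨f, hf, -⟩ := desc_unique q q' fun T a b hab =>
    (inv_mul_comp_eq_one q' a b).mp ((h T _).mp ((inv_mul_comp_eq_one q a b).mpr hab))
  obtain ⟨g, hg, -⟩ := desc_unique q' q fun T a b hab =>
    (inv_mul_comp_eq_one q a b).mp ((h T _).mpr ((inv_mul_comp_eq_one q' a b).mpr hab))
  haveI := H19Grp.epi_over_of_fpqc q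
  haveI := H19Grp.epi_over_of_fpqc q'
  have h1 : f ≫ g = 𝟙 Q := by rw [← cancel_epi q, ← Category.assoc, hf, hg, Category.comp_id]
  have h2 : g ≫ f = 𝟙 Q' := by rw [← cancel_epi q', ← Category.assoc, hg, hf, Category.comp_id]
  haveI : IsIso f := ⟨g, h1, h2⟩
  haveI := flat_tensorHom q q
  haveI := surjective_tensorHom q q
  haveI := H19Grp.epi_tensorHom_of_fpqc q q
  haveI : IsMonHom f := by
    refine ⟨?_, ?_⟩
    · rw [← IsMonHom.one_hom (f := q), Category.assoc, hf, IsMonHom.one_hom]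
    · rw [← cancel_epi (q ⊗ₘ q), ← Category.assoc, ← IsMonHom.mul_hom (f := q), Category.assoc, hf,
        IsMonHom.mul_hom, ← Category.assoc, tensorHom_comp_tensorHom, hf]
  exact ⟨Grp.mkIso' (asIso f), hf⟩

/-- An fppf map whose kernel on points is a given subgroup. -/
def IsKernelQuot [GrpObj Q] (i : H ⟶ G) (q : G ⟶ Q) : Prop :=
  Surjective q.left ∧ Flat q.left ∧ LocallyOfFinitePresentation q.left ∧
    ∀ {T : Over S} (x : T ⟶ G), x ≫ q = 1 ↔ ∃ n : T ⟶ H, n ≫ i = x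

theorem isKernelQuot_of_isQuotient [GrpObj Q] [GrpObj H] {i : H ⟶ G} {q : G ⟶ Q} [IsMonHom q]
    (hq : RedSub.IsQuotient i q) : IsKernelQuot i q :=
  ⟨hq.1, hq.2.1, hq.2.2.1, fun x => comp_eq_one_iff hq x⟩

end Groth.Agent.H21Quot
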