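import Groth.Prelude.Def_RedSub
import Groth.Agent.H19Grp.Quotient

/-!
# The group structure on a representable quotient by a normal subgroup
-/

universe u

open CategoryTheory CategoryTheory.Limits MonoidalCategory CartesianMonoidalCategory MonObj GrpObj
  AlgebraicGeometry

namespace Groth.Agent.H21Quot

set_option linter.style.haveILetI false

variable {S : Scheme.{u}} {G Q H K N X : Over S}

lemma desc_unique (q : G ⟶ Q) [Flat q.left] [Surjective q.left]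
    [LocallyOfFinitePresentation q.left]
    (φ : G ⟶ K) (h : ∀ (T : Over S) (a b : T ⟶ G), a ≫ q = b ≫ q → a ≫ φ = b ≫ φ) :
    ∃ φ' : Q ⟶ K, q ≫ φ' = φ ∧ ∀ φ'' : Q ⟶ K, q ≫ φ'' = φ → φ'' = φ' := by
  have hcond : ∀ {Z : Scheme.{u}} (g₁ g₂ : Z ⟶ G.left), g₁ ≫ q.left = g₂ ≫ q.left →
      g₁ ≫ φ.left = g₂ ≫ φ.left := by
    intro Z g₁ g₂ hg
    have hb : g₂ ≫ G.hom = g₁ ≫ G.hom := by
      rw [← Over.w q, ← Category.assoc, ← hg, Category.assoc]
    exact congrArg (·.left) (h (Over.mk (g₁ ≫ G.hom)) (Over.homMk g₁ rfl) (Over.homMk g₂ hb)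
      (Over.OverMorphism.ext hg))
  let d := EffectiveEpi.desc q.left φ.left hcond
  have hd : q.left ≫ d = φ.left := EffectiveEpi.fac q.left φ.left hcond
  refine ⟨Over.homMk d ?_, Over.OverMorphism.ext hd, fun φ'' h'' => Over.OverMorphism.ext ?_⟩
  · rw [← cancel_epi q.left, ← Category.assoc, hd, Over.w, Over.w]
  · show φ''.left = d
    rw [← cancel_epi q.left, hd, ← Over.comp_left, h'']

lemma flat_tensorHom (q : G ⟶ Q) (p : N ⟶ X) [Flat q.left] [Flat p.left] : Flat (q ⊗ₘ p).left := by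
  rw [Over.tensorHom_left]
  exact MorphismProperty.pullbackMap (P := @Flat) (inferInstanceAs (Flat q.left))
    (inferInstanceAs (Flat p.left)) (Over.w q).symm (Over.w p).symm

lemma surjective_tensorHom (q : G ⟶ Q) (p : N ⟶ X) [Surjective q.left] [Surjective p.left] :
    Surjective (q ⊗ₘ p).left := by
  haveI : MorphismProperty.IsStableUnderComposition @Surjective.{u} :=
    (inferInstance : MorphismProperty.IsMultiplicative @Surjective.{u}).toIsStableUnderComposition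
  rw [Over.tensorHom_left]
  exact MorphismProperty.pullbackMap (P := @Surjective) (inferInstanceAs (Surjective q.left))
    (inferInstanceAs (Surjective p.left)) (Over.w q).symm (Over.w p).symm

lemma lfp_tensorHom (q : G ⟶ Q) (p : N ⟶ X) [LocallyOfFinitePresentation q.left]
    [LocallyOfFinitePresentation p.left] : LocallyOfFinitePresentation (q ⊗ₘ p).left := by
  rw [Over.tensorHom_left]
  exact MorphismProperty.pullbackMap (P := @LocallyOfFinitePresentation)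
    (inferInstanceAs (LocallyOfFinitePresentation q.left))
    (inferInstanceAs (LocallyOfFinitePresentation p.left)) (Over.w q).symm (Over.w p).symm

variable [GrpObj G] [GrpObj H]

lemma comp_eq_iff {i : H ⟶ G} {q : G ⟶ Q} (hq : RedSub.IsQuotient i q) {T : Over S} (a b : T ⟶ G) :
    a ≫ q = b ≫ q ↔ ∃ n : T ⟶ H, b = a * (n ≫ i) := by
  have key : ∀ n : T ⟶ H, lift a n ≫ ((G ◁ i) ≫ μ[G]) = a * (n ≫ i) := fun n => by
    rw [Hom.mul_def, ← Category.assoc, lift_whiskerLeft]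
  refine ⟨fun h => ?_, fun ⟨n, hn⟩ => ?_⟩
  · refine ⟨hq.2.2.2.lift a b h ≫ snd G H, ?_⟩
    rw [← key]
    conv_lhs => rw [← hq.2.2.2.lift_snd a b h]
    congr 1
    ext
    · rw [hq.2.2.2.lift_fst, lift_fst]
    · rw [lift_snd]
  · subst hn
    rw [← key, Category.assoc, ← hq.2.2.2.w, ← Category.assoc, lift_fst]

/-- the group law descended to the quotient -/
lemma exists_laws {i : H ⟶ G} [IsMonHom i] (hn : AlgGrp.IsNormalHom i) {q : G ⟶ Q}
    (hq : RedSub.IsQuotient i q) :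
    ∃ (m : Q ⊗ Q ⟶ Q) (v : Q ⟶ Q), (q ⊗ₘ q) ≫ m = μ[G] ≫ q ∧ q ≫ v = ι[G] ≫ q ∧
      ∀ m' : Q ⊗ Q ⟶ Q, (q ⊗ₘ q) ≫ m' = μ[G] ≫ q → m' = m := by
  haveI := hq.1; haveI := hq.2.1; haveI := hq.2.2.1
  haveI := flat_tensorHom q q; haveI := surjective_tensorHom q q; haveI := lfp_tensorHom q q
  obtain ⟨m, hm, hm'⟩ := desc_unique (q ⊗ₘ q) (μ[G] ≫ q) fun T a b hab => by
    have h1 : (a ≫ fst _ _) ≫ q = (b ≫ fst _ _) ≫ q := by
      simpa using congrArg (· ≫ fst Q Q) hab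
    have h2 : (a ≫ snd _ _) ≫ q = (b ≫ snd _ _) ≫ q := by
      simpa using congrArg (· ≫ snd Q Q) hab
    obtain ⟨n₁, hn₁⟩ := (comp_eq_iff hq _ _).mp h1
    obtain ⟨n₂, hn₂⟩ := (comp_eq_iff hq _ _).mp h2
    obtain ⟨n', hn'⟩ := hn T (a ≫ snd _ _)⁻¹ n₁
    rw [_root_.inv_inv] at hn'
    have hab' : ∀ c : T ⟶ G ⊗ G, c ≫ μ[G] = (c ≫ fst _ _) * (c ≫ snd _ _) := fun c => by
      rw [Hom.mul_def, ← comp_lift, lift_fst_snd, Category.comp_id]
    rw [← Category.assoc, ← Category.assoc]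
    refine (comp_eq_iff hq _ _).mpr ⟨n' * n₂, ?_⟩
    rw [hab', hab', hn₁, hn₂, MonObj.mul_comp, ← hn']
    group
  obtain ⟨v, hv, -⟩ := desc_unique q (ι[G] ≫ q) fun T a b hab => by
    obtain ⟨n, hn₁⟩ := (comp_eq_iff hq _ _).mp hab
    obtain ⟨n', hn'⟩ := hn T a n⁻¹
    rw [← Category.assoc, ← Category.assoc, ← Hom.inv_def, ← Hom.inv_def]
    refine (comp_eq_iff hq _ _).mpr ⟨n', ?_⟩
    rw [← hn', hn₁, GrpObj.inv_comp]
    group
  exact ⟨m, v, hm, hv, hm'⟩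

/-- group structure on `Q` from descended laws -/
@[instance_reducible]
noncomputable def quotGrpObj (q : G ⟶ Q) [Flat q.left] [Surjective q.left] (m : Q ⊗ Q ⟶ Q)
    (v : Q ⟶ Q) (hm : (q ⊗ₘ q) ≫ m = μ[G] ≫ q) (hv : q ≫ v = ι[G] ≫ q) : GrpObj Q where
  one := η[G] ≫ q
  mul := m
  one_mul := by
    haveI := H19Grp.epi_over_of_fpqc q
    have : Epi (𝟙_ (Over S) ◁ q) := by
      rw [show 𝟙_ (Over S) ◁ q = (λ_ G).hom ≫ q ≫ (λ_ Q).inv by simp]
      infer_instance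
    rw [← cancel_epi (𝟙_ (Over S) ◁ q), MonoidalCategory.leftUnitor_naturality,
      ← Category.assoc, ← tensorHom_def', show (η[G] ≫ q) ⊗ₘ q = (η[G] ▷ G) ≫ (q ⊗ₘ q) by
        ext <;> simp,
      Category.assoc, hm, ← Category.assoc, MonObj.one_mul]
  mul_one := by
    haveI := H19Grp.epi_over_of_fpqc q
    have : Epi (q ▷ 𝟙_ (Over S)) := by
      rw [show q ▷ 𝟙_ (Over S) = (ρ_ G).hom ≫ q ≫ (ρ_ Q).inv by simp]
      infer_instance
    rw [← cancel_epi (q ▷ 𝟙_ (Over S)), MonoidalCategory.rightUnitor_naturality,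
      ← Category.assoc, ← tensorHom_def, show q ⊗ₘ (η[G] ≫ q) = (G ◁ η[G]) ≫ (q ⊗ₘ q) by
        ext <;> simp,
      Category.assoc, hm, ← Category.assoc, MonObj.mul_one]
  mul_assoc := by
    haveI := flat_tensorHom q q; haveI := surjective_tensorHom q q
    haveI := H19Grp.epi_tensorHom_of_fpqc (q ⊗ₘ q) q
    rw [← cancel_epi ((q ⊗ₘ q) ⊗ₘ q)]
    calc ((q ⊗ₘ q) ⊗ₘ q) ≫ (m ▷ Q) ≫ m
        = (((q ⊗ₘ q) ≫ m) ⊗ₘ q) ≫ m := by rw [tensorHom_comp_whiskerRight_assoc]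
      _ = (μ[G] ▷ G) ≫ μ[G] ≫ q := by rw [hm, ← whiskerRight_comp_tensorHom, Category.assoc, hm]
      _ = (α_ G G G).hom ≫ (G ◁ μ[G]) ≫ μ[G] ≫ q := by rw [MonObj.mul_assoc_assoc]
      _ = (α_ G G G).hom ≫ (q ⊗ₘ ((q ⊗ₘ q) ≫ m)) ≫ m := by
          rw [hm, ← whiskerLeft_comp_tensorHom, Category.assoc, hm]
      _ = ((q ⊗ₘ q) ⊗ₘ q) ≫ (α_ Q Q Q).hom ≫ (Q ◁ m) ≫ m := by
          rw [associator_naturality_assoc, tensorHom_comp_whiskerLeft_assoc]
  inv := v
  left_inv := by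
    haveI := H19Grp.epi_over_of_fpqc q
    rw [← cancel_epi q, ← Category.assoc, comp_lift, hv, Category.comp_id,
      show lift (ι[G] ≫ q) q = lift ι[G] (𝟙 G) ≫ (q ⊗ₘ q) by simp,
      Category.assoc, hm, ← Category.assoc, GrpObj.left_inv, ← Category.assoc, comp_toUnit,
      Category.assoc]
  right_inv := by
    haveI := H19Grp.epi_over_of_fpqc q
    rw [← cancel_epi q, ← Category.assoc, comp_lift, hv, Category.comp_id,
      show lift q (ι[G] ≫ q) = lift (𝟙 G) ι[G] ≫ (q ⊗ₘ q) by simp,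
      Category.assoc, hm, ← Category.assoc, GrpObj.right_inv, ← Category.assoc, comp_toUnit,
      Category.assoc]

end Groth.Agent.H21Quot
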