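import Groth.Agent.H21Quot.Basic
import Groth.Agent.H06EGA9.FlatDescentAtPoint
import Groth.Agent.H13AlgSp.FppfSource

/-!
# Quotients of quotients
-/

universe u

open CategoryTheory CategoryTheory.Limits MonoidalCategory CartesianMonoidalCategory MonObj GrpObj
  AlgebraicGeometry

namespace Groth.Agent.H21Quot

set_option linter.style.haveILetI false
set_option backward.isDefEq.respectTransparency false

variable {S : Scheme.{u}} {A B T : Over S}

/-- An fppf local lift of a point. -/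
theorem exists_lift_cover (q : A ⟶ B) [Flat q.left] [Surjective q.left] [LocallyOfFinitePresentation q.left]
    (t : T ⟶ B) : ∃ (T' : Over S) (p : T' ⟶ T) (a : T' ⟶ A), Flat p.left ∧ Surjective p.left ∧
      LocallyOfFinitePresentation p.left ∧ a ≫ q = p ≫ t := by
  let T' : Over S := Over.mk (pullback.fst t.left q.left ≫ T.hom)
  refine ⟨T', Over.homMk (pullback.fst t.left q.left) rfl, Over.homMk (pullback.snd t.left q.left) ?_,
    inferInstanceAs (Flat (pullback.fst t.left q.left)), inferInstanceAs (Surjective (pullback.fst t.left q.left)),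
    inferInstanceAs (LocallyOfFinitePresentation (pullback.fst t.left q.left)), ?_⟩
  · change pullback.snd t.left q.left ≫ A.hom = pullback.fst t.left q.left ≫ T.hom
    rw [← Over.w q, ← pullback.condition_assoc, Over.w t]
  · ext : 1
    exact pullback.condition.symm

/-- A point factoring through a monomorphism fppf locally factors through it. -/
theorem exists_factor_of_cover {T' : Over S} (m : A ⟶ B) [Mono m] (p : T' ⟶ T) [Flat p.left] [Surjective p.left]
    [LocallyOfFinitePresentation p.left] (a : T' ⟶ A) (x : T ⟶ B) (h : a ≫ m = p ≫ x) : ∃ y : T ⟶ A, y ≫ m = x := by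
  obtain ⟨y, hy, -⟩ := desc_unique p a fun U c d hcd => by
    rw [← cancel_mono m, Category.assoc, Category.assoc, h, ← Category.assoc, hcd, Category.assoc]
  refine ⟨y, ?_⟩
  obtain ⟨z, -, hz⟩ := desc_unique p (p ≫ x) fun U c d hcd => by rw [← Category.assoc, hcd, Category.assoc]
  rw [hz x rfl, hz (y ≫ m) (by rw [← Category.assoc, hy, h])]

/-- A cone is a pullback as soon as it is one on points. -/
theorem isPullback_of_points {P X Z : Over S} {f g : P ⟶ X} {q : X ⟶ Z} (w : f ≫ q = g ≫ q) [Mono (lift f g)]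
    (h : ∀ (T : Over S) (u v : T ⟶ X), u ≫ q = v ≫ q → ∃ c : T ⟶ P, c ≫ f = u ∧ c ≫ g = v) :
    IsPullback f g q q := by
  refine ⟨⟨w⟩, ⟨PullbackCone.IsLimit.mk w (fun c => (h _ _ _ c.condition).choose)
    (fun c => (h _ _ _ c.condition).choose_spec.1) (fun c => (h _ _ _ c.condition).choose_spec.2)
    fun c n h1 h2 => ?_⟩⟩
  rw [← cancel_mono (lift f g), comp_lift, comp_lift, h1, h2, (h _ _ _ c.condition).choose_spec.1,
    (h _ _ _ c.condition).choose_spec.2]

variable {H K G QH Kb : Over S} [GrpObj H] [GrpObj K] [GrpObj G] [GrpObj Kb]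
    {h : H ⟶ K} {k : K ⟶ G} [Mono h] [Mono k] [IsMonHom h] [IsMonHom k]
    {qH : G ⟶ QH} (hqH : RedSub.IsQuotient (h ≫ k) qH)
    {qKb : K ⟶ Kb} (hqKb : RedSub.IsQuotient h qKb)
    {act : QH ⊗ Kb ⟶ QH} (hact : (qH ⊗ₘ qKb) ≫ act = (G ◁ k) ≫ μ[G] ≫ qH)

include hact in
theorem act_point (a : T ⟶ G) (n : T ⟶ K) :
    lift (a ≫ qH) (n ≫ qKb) ≫ act = (a * (n ≫ k)) ≫ qH := by
  rw [← lift_map_assoc, hact, lift_whiskerLeft_assoc, Hom.mul_def, Category.assoc]

include hqH hqKb hact in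
theorem mono_act : Mono (lift (fst QH Kb) act) := by
  refine ⟨fun {T} u v huv => ?_⟩
  have e1 : u ≫ fst _ _ = v ≫ fst _ _ := by simpa using congrArg (· ≫ fst _ _) huv
  have e2 : u ≫ act = v ≫ act := by simpa using congrArg (· ≫ snd _ _) huv
  haveI := hqH.1; haveI := hqH.2.1; haveI := hqH.2.2.1
  haveI := hqKb.1; haveI := hqKb.2.1; haveI := hqKb.2.2.1
  haveI := flat_tensorHom qH qKb; haveI := surjective_tensorHom qH qKb; haveI := lfp_tensorHom qH qKb
  obtain ⟨T₁, p, a, _, _, _, ha⟩ := exists_lift_cover (qH ⊗ₘ qKb) u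
  obtain ⟨T₂, p', b, _, _, _, hb⟩ := exists_lift_cover qKb (p ≫ v ≫ snd _ _)
  have : Epi p.left := Flat.epi_of_flat_of_surjective _
  have : Epi p'.left := Flat.epi_of_flat_of_surjective _
  have : Epi (p' ≫ p) := ⟨fun r s hrs => Over.OverMorphism.ext
    ((cancel_epi p.left).mp ((cancel_epi p'.left).mp (by simpa using congrArg (·.left) hrs)))⟩
  rw [← cancel_epi (p' ≫ p)]
  let a₁ := p' ≫ a ≫ fst _ _
  let n₁ := p' ≫ a ≫ snd _ _
  have hu : (p' ≫ p) ≫ u = lift (a₁ ≫ qH) (n₁ ≫ qKb) := by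
    rw [Category.assoc, ← ha]
    ext <;> simp [a₁, n₁]
  have hv : (p' ≫ p) ≫ v = lift (a₁ ≫ qH) (b ≫ qKb) := by
    apply CartesianMonoidalCategory.hom_ext
    · rw [lift_fst, Category.assoc, Category.assoc, ← e1, ← Category.assoc p, ← Category.assoc p', ← Category.assoc p']
      simpa [a₁] using congrArg (fun r => r ≫ fst _ _) hu
    · rw [lift_snd, hb, Category.assoc, Category.assoc]
  have e3 : (a₁ * (n₁ ≫ k)) ≫ qH = (a₁ * (b ≫ k)) ≫ qH := by
    rw [← act_point hact, ← act_point hact, ← hu, ← hv, Category.assoc, Category.assoc _ v, e2]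
  obtain ⟨m, hm⟩ := (comp_eq_iff hqH _ _).mp e3
  have e4 : n₁ ≫ qKb = b ≫ qKb := (comp_eq_iff hqKb _ _).mpr ⟨m, by
    rw [← cancel_mono k, MonObj.mul_comp, Category.assoc]
    rw [_root_.mul_assoc] at hm
    exact mul_left_cancel hm⟩
  rw [hu, hv, e4]

include hqH hqKb hact in
theorem bar_properties {QK : Over S} {qK : G ⟶ QK} (hqK : RedSub.IsQuotient k qK) {qbar : QH ⟶ QK}
    (hb : qH ≫ qbar = qK) :
    Surjective qbar.left ∧ Flat qbar.left ∧ LocallyOfFinitePresentation qbar.left ∧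
      IsPullback (fst QH Kb) act qbar qbar := by
  haveI := hqH.1; haveI := hqH.2.1; haveI := hqH.2.2.1
  haveI := hqKb.1; haveI := hqKb.2.1; haveI := hqKb.2.2.1
  have hs : Surjective (qH.left ≫ qbar.left) := by rw [← Over.comp_left, hb]; exact hqK.1
  have hf : Flat (qH.left ≫ qbar.left) := by rw [← Over.comp_left, hb]; exact hqK.2.1
  refine ⟨Surjective.of_comp qH.left qbar.left, H06EGA9.flat_of_comp_surjective_flat qH.left qbar.left, ?_, ?_⟩
  · exact H13AlgSp.lfp_of_jointly_surjective qbar.left (fun _ : PUnit.{u+1} => G.left) (fun _ => qH.left)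
      (fun t => ⟨PUnit.unit, qH.left.surjective t⟩) (fun _ => ⟨hqH.2.1, hqH.2.2.1⟩)
      fun _ => by rw [← Over.comp_left, hb]; exact hqK.2.2.1
  haveI := flat_tensorHom qH qKb; haveI := surjective_tensorHom qH qKb
  haveI := H19Grp.epi_over_of_fpqc (qH ⊗ₘ qKb)
  have hw : fst QH Kb ≫ qbar = act ≫ qbar := by
    rw [← cancel_epi (qH ⊗ₘ qKb), ← Category.assoc, ← Category.assoc, hact, tensorHom_fst, Category.assoc,
      Category.assoc, Category.assoc, hb, hqK.2.2.2.w, Category.assoc]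
  haveI := mono_act hqH hqKb hact
  refine isPullback_of_points hw fun T u v huv => ?_
  haveI := flat_tensorHom qH qH; haveI := surjective_tensorHom qH qH; haveI := lfp_tensorHom qH qH
  obtain ⟨T', p, a, _, _, _, ha⟩ := exists_lift_cover (qH ⊗ₘ qH) (lift u v)
  have hu : (a ≫ fst _ _) ≫ qH = p ≫ u := by simpa using congrArg (· ≫ fst _ _) ha
  have hv : (a ≫ snd _ _) ≫ qH = p ≫ v := by simpa using congrArg (· ≫ snd _ _) ha
  have e : (a ≫ fst _ _) ≫ qK = (a ≫ snd _ _) ≫ qK := by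
    rw [← hb, ← Category.assoc _ qH, hu, ← Category.assoc (a ≫ snd _ _) qH, hv, Category.assoc, huv, Category.assoc]
  obtain ⟨n, hn⟩ := (comp_eq_iff hqK _ _).mp e
  obtain ⟨c, hc⟩ := exists_factor_of_cover (lift (fst QH Kb) act) p (lift ((a ≫ fst _ _) ≫ qH) (n ≫ qKb)) (lift u v) (by
    rw [comp_lift, comp_lift, lift_fst, act_point hact, ← hn, hu, hv])
  exact ⟨c, by simpa using congrArg (· ≫ fst _ _) hc, by simpa using congrArg (· ≫ snd _ _) hc⟩

include hqH hqKb hact in
theorem quotient_of_bar {Y : Over S} {p : QH ⟶ Y} (h1 : Surjective p.left) (h2 : Flat p.left)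
    (h3 : LocallyOfFinitePresentation p.left) (h4 : IsPullback (fst QH Kb) act p p) :
    RedSub.IsQuotient k (qH ≫ p) := by
  haveI := hqH.1; haveI := hqH.2.1; haveI := hqH.2.2.1
  haveI := hqKb.1; haveI := hqKb.2.1; haveI := hqKb.2.2.1
  refine ⟨by rw [Over.comp_left]; infer_instance, by rw [Over.comp_left]; infer_instance,
    by rw [Over.comp_left]; infer_instance, ?_⟩
  have hmono : Mono (lift (fst G K) ((G ◁ k) ≫ μ[G])) := ⟨fun {T} u v huv => by
    have e1 : u ≫ fst _ _ = v ≫ fst _ _ := by simpa using congrArg (· ≫ fst _ _) huv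
    have e2 : u ≫ (G ◁ k) ≫ μ[G] = v ≫ (G ◁ k) ≫ μ[G] := by simpa using congrArg (· ≫ snd _ _) huv
    have key : ∀ w : T ⟶ G ⊗ K, w ≫ (G ◁ k) ≫ μ[G] = (w ≫ fst _ _) * ((w ≫ snd _ _) ≫ k) := fun w => by
      rw [Hom.mul_def, ← lift_whiskerLeft_assoc, ← comp_lift, lift_fst_snd, Category.comp_id]
    rw [key, key, e1] at e2
    apply CartesianMonoidalCategory.hom_ext
    · exact e1
    · exact (cancel_mono k).mp (mul_left_cancel e2)⟩
  have hw : fst G K ≫ qH ≫ p = ((G ◁ k) ≫ μ[G]) ≫ qH ≫ p := by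
    rw [← Category.assoc ((G ◁ k) ≫ μ[G]), Category.assoc (G ◁ k), ← hact, ← tensorHom_fst_assoc qH qKb,
      Category.assoc, h4.w]
  refine isPullback_of_points hw fun T u v huv => ?_
  let c := h4.lift (u ≫ qH) (v ≫ qH) (by simpa using huv)
  obtain ⟨T', r, n, _, _, _, hn⟩ := exists_lift_cover qKb (c ≫ snd _ _)
  have e : (r ≫ v) ≫ qH = ((r ≫ u) * (n ≫ k)) ≫ qH := by
    rw [← act_point hact, Category.assoc, Category.assoc, ← h4.lift_snd (u ≫ qH) (v ≫ qH) (by simpa using huv),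
      ← Category.assoc]
    congr 1
    apply CartesianMonoidalCategory.hom_ext
    · rw [lift_fst, Category.assoc, h4.lift_fst]
    · rw [lift_snd, hn, Category.assoc]
  obtain ⟨m, hm⟩ := (comp_eq_iff hqH _ _).mp e.symm
  obtain ⟨y, hy⟩ := exists_factor_of_cover k r (n * (m ≫ h)) (u⁻¹ * v) (by
    rw [MonObj.mul_comp, MonObj.comp_mul, GrpObj.comp_inv, hm, Category.assoc]
    group)
  refine ⟨lift u y, lift_fst _ _, ?_⟩
  rw [lift_whiskerLeft_assoc, ← Hom.mul_def, hy, mul_inv_cancel_left]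

end Groth.Agent.H21Quot
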