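import Groth.Agent.H21Quot.OfKernel
import Groth.Agent.H21Quot.Third
import Groth.Agent.H21Diag.Conj

/-!
# Factorisation through the quotient by the kernel
-/

universe u

open CategoryTheory CategoryTheory.Limits MonoidalCategory CartesianMonoidalCategory MonObj GrpObj
  AlgebraicGeometry

set_option linter.style.haveILetI false

namespace Groth.Agent.H21Quot

variable {S : Scheme.{u}} {G Q X : Over S} [GrpObj G] [GrpObj Q] [GrpObj X]

/-- A homomorphism with the same kernel as an fppf quotient map factors through it by a monomorphism. -/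
theorem exists_mono_desc (q : G ⟶ Q) [IsMonHom q] [Flat q.left] [Surjective q.left]
    [LocallyOfFinitePresentation q.left] (f : G ⟶ X) [IsMonHom f]
    (h : ∀ (T : Over S) (x : T ⟶ G), x ≫ f = 1 ↔ x ≫ q = 1) :
    ∃ j : Q ⟶ X, IsMonHom j ∧ Mono j ∧ q ≫ j = f := by
  obtain ⟨j, hj, -⟩ := desc_unique q f fun T a b hab =>
    (inv_mul_comp_eq_one f a b).mp ((h T _).mpr ((inv_mul_comp_eq_one q a b).mpr hab))
  haveI := H19Grp.epi_over_of_fpqc q
  haveI := flat_tensorHom q q
  haveI := surjective_tensorHom q q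
  haveI := H19Grp.epi_tensorHom_of_fpqc q q
  haveI : IsMonHom j := by
    refine ⟨?_, ?_⟩
    · rw [← IsMonHom.one_hom (f := q), Category.assoc, hj, IsMonHom.one_hom]
    · rw [← cancel_epi (q ⊗ₘ q), ← Category.assoc, ← IsMonHom.mul_hom (f := q), Category.assoc, hj,
        IsMonHom.mul_hom, ← Category.assoc, tensorHom_comp_tensorHom, hj]
  refine ⟨j, inferInstance, ⟨fun {T} a b hab => ?_⟩, hj⟩
  obtain ⟨T', p, c, hp1, hp2, hp3, hc⟩ := exists_lift_cover q (a⁻¹ * b)
  haveI := H19Grp.epi_over_of_fpqc p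
  have h1 : (a⁻¹ * b) ≫ j = 1 := (inv_mul_comp_eq_one j a b).mpr hab
  have h2 : c ≫ f = 1 := by rw [← hj, ← Category.assoc, hc, Category.assoc, h1, MonObj.comp_one]
  have h3 : p ≫ (a⁻¹ * b) = p ≫ 1 := by rw [← hc, (h T' c).mp h2, MonObj.comp_one]
  exact inv_mul_eq_one.mp ((cancel_epi p).mp h3)

end Groth.Agent.H21Quot
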