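import Groth.Agent.H19Grp.SchemImage
import Groth.Agent.H21Diag.SubgroupEq
import Groth.Agent.H21Diag.MonoLocus
import Groth.Agent.H21Diag.Conj
import Groth.Agent.H21Diag.DSMap

/-!
Scheme-theoretic images of homomorphisms which locally factor as fpqc map followed by closed immersion.
-/

set_option backward.isDefEq.respectTransparency false
set_option linter.style.haveILetI false

open CategoryTheory MonoidalCategory CartesianMonoidalCategory MonObj GrpObj AlgebraicGeometry
open CategoryTheory.Limits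

universe u

namespace Groth.Agent.H21Quot

open Groth.Agent.H21Diag

theorem dominant_of_fpqc {X Y : Scheme.{u}} (q : X ⟶ Y) [Flat q] [Surjective q] [QuasiCompact q] :
    IsSchemeTheoreticallyDominant q := by
  let i := q.imageι
  let b : X ⟶ pullback i q := pullback.lift q.toImage (𝟙 X) (by rw [Category.id_comp]; exact q.toImage_imageι)
  haveI : IsIso (pullback.snd i q) := by
    refine ⟨b, ?_, pullback.lift_snd _ _ _⟩
    rw [← cancel_mono (pullback.snd i q), Category.assoc, pullback.lift_snd, Category.comp_id, Category.id_comp]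
  have : IsIso i := MorphismProperty.of_pullback_snd_of_descendsAlong
    (P := MorphismProperty.isomorphisms Scheme.{u}) (Q := H18Descent.fpqc.{u}) (f := i) (g := q)
    ⟨⟨inferInstance, inferInstance⟩, inferInstance⟩ (inferInstanceAs (IsIso (pullback.snd i q)))
  exact ⟨(Scheme.isIso_subschemeι_iff_eq_bot _).mp this⟩

variable {S : Scheme.{u}} {H G : Over S}

/-- the scheme-theoretic image commutes with restriction to an open subset of the base -/
theorem exists_comparison {K : Over S} (f : H ⟶ G) [QuasiCompact f.left] (i : K ⟶ G) [IsClosedImmersion i.left]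
    (hker : i.left.ker = f.left.ker) {T : Scheme.{u}} (v : T ⟶ S) [IsOpenImmersion v] {Q : Over T}
    (q : Red.bc v H ⟶ Q) (j : Q ⟶ Red.bc v G) [Flat q.left] [Surjective q.left] [QuasiCompact q.left]
    [IsClosedImmersion j.left] (hqj : q ≫ j = (Over.pullback v).map f) :
    ∃ ψ : Q ⟶ Red.bc v K, IsIso ψ ∧ ψ ≫ (Over.pullback v).map i = j ∧
      ∀ f' : H ⟶ K, f' ≫ i = f → (Over.pullback v).map f' = q ≫ ψ := by
  let w : pullback G.hom v ⟶ G.left := pullback.fst G.hom v
  let iU : Red.bc v K ⟶ Red.bc v G := (Over.pullback v).map i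
  haveI : IsClosedImmersion iU.left := MorphismProperty.overPullbackMap (P := @IsClosedImmersion) _ _ ‹_›
  let fU : Red.bc v H ⟶ Red.bc v G := (Over.pullback v).map f
  have hsq := isPullback_bc_map f v
  have h1 : fU.left.ker = f.left.ker.comap w := by
    refine Scheme.IdealSheafData.ext (funext fun W => ?_)
    rw [Scheme.IdealSheafData.ideal_comap_of_isOpenImmersion]
    exact Scheme.ker_ideal_of_isPullback_of_isOpenImmersion _ _ _ _ hsq W
  have h2 : iU.left.ker = f.left.ker.comap w := by
    rw [← hker, ← Scheme.IdealSheafData.ker_fst_of_isClosedImmersion i.left w]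
    have hsq' := isPullback_bc_map i v
    exact (congrArg Scheme.Hom.ker hsq'.flip.flip.isoPullback_hom_fst.symm).trans (Scheme.Hom.ker_comp_of_isIso _ _)
  haveI := dominant_of_fpqc q.left
  have h3 : fU.left.ker = j.left.ker := by
    rw [show fU.left = q.left ≫ j.left from (congrArg (fun m => m.left) hqj).symm, Scheme.Hom.ker_comp,
      Scheme.Hom.ker_eq_bot q.left, Scheme.IdealSheafData.map_bot]
  have hk : iU.left.ker ≤ j.left.ker := le_of_eq (h2.trans (h1.symm.trans h3))
  let ψl := IsClosedImmersion.lift iU.left j.left hk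
  have hψ : ψl ≫ iU.left = j.left := IsClosedImmersion.lift_fac _ _ _
  haveI : IsIso ψl := IsClosedImmersion.isIso_of_ker_eq j.left iU.left ψl hψ (h3.symm.trans (h1.trans h2.symm))
  let ψ : Q ⟶ Red.bc v K := Over.homMk ψl (by rw [← Over.w iU, ← Category.assoc, hψ, Over.w j])
  haveI : IsIso ((Over.forget _).map ψ) := inferInstanceAs (IsIso ψl)
  haveI : IsIso ψ := isIso_of_reflects_iso ψ (Over.forget _)
  haveI : Mono iU := Over.mono_of_mono_left _
  refine ⟨ψ, inferInstance, Over.OverMorphism.ext hψ, fun f' hf' => ?_⟩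
  rw [← cancel_mono iU, Category.assoc, show ψ ≫ iU = j from Over.OverMorphism.ext hψ, hqj, ← Functor.map_comp, hf']

variable [GrpObj H] [GrpObj G]

/-- The image of a homomorphism which locally on the base is an fpqc map followed by a closed immersion. -/
theorem exists_image (f : H ⟶ G) [IsMonHom f] [QuasiCompact f.left] [Flat H.hom]
    (P : ∀ (T : Scheme.{u}) (_ : T ⟶ S), Grp (Over T) → Prop)
    (h : ∀ s : S, ∃ (T : Scheme.{u}) (v : T ⟶ S) (Q : Grp (Over T)) (q : Red.bc v H ⟶ Q.X) (j : Q.X ⟶ Red.bc v G),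
      IsOpenImmersion v ∧ s ∈ Set.range v.base ∧ P T v Q ∧ Flat q.left ∧ Surjective q.left ∧ QuasiCompact q.left ∧ Flat Q.X.hom ∧
        IsMonHom j ∧ IsClosedImmersion j.left ∧ q ≫ j = (Over.pullback v).map f) :
    ∃ (K : Over S) (_ : GrpObj K) (i : K ⟶ G) (f' : H ⟶ K),
      IsMonHom i ∧ IsMonHom f' ∧ f' ≫ i = f ∧ IsClosedImmersion i.left ∧ Flat f'.left ∧ Surjective f'.left ∧
        ∀ s : S, ∃ (T : Scheme.{u}) (v : T ⟶ S) (Q : Grp (Over T)), IsOpenImmersion v ∧ s ∈ Set.range v.base ∧
          P T v Q ∧ Nonempty (Grp.mk (Red.bc v K) ≅ Q) := by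
  choose U v Q q j hv hs hP hqf hqs hqc hQ hjh hjc hqj using h
  haveI := hv
  let Z : Over S := Over.mk (f.left.imageι ≫ G.hom)
  let ιZ : Z ⟶ G := Over.homMk f.left.imageι rfl
  haveI : IsClosedImmersion ιZ.left := inferInstanceAs (IsClosedImmersion f.left.imageι)
  have hkerZ : ιZ.left.ker = f.left.ker := Scheme.IdealSheafData.ker_subschemeι _
  let 𝒰 : S.OpenCover := Scheme.Cover.mkOfCovers S (fun s => U s) (fun s => v s)
    (fun x => let ⟨y, hy⟩ := hs x; ⟨x, y, hy⟩) (fun s => hv s)
  have hflat : Flat (f.left.imageι ≫ G.hom) := by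
    refine IsZariskiLocalAtTarget.of_openCover (P := @Flat) 𝒰 fun s => ?_
    haveI := hqf s; haveI := hqs s; haveI := hqc s; haveI := hQ s; haveI := hjc s
    obtain ⟨ψ, hψ, -, -⟩ := exists_comparison f ιZ hkerZ (v s) (q s) (j s) (hqj s)
    haveI : IsIso ψ.left := inferInstanceAs (IsIso ((Over.forget _).map ψ))
    have hw : (Red.bc (v s) Z).hom = inv ψ.left ≫ (Q s).X.hom := by rw [← Over.w ψ, IsIso.inv_hom_id_assoc]
    change Flat (Red.bc (v s) Z).hom
    rw [hw]
    infer_instance
  obtain ⟨K, _, i, f', hi, hf', hfac, hic, hdom, hqc'⟩ := H19Grp.exists_schemImage f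
  have hker : i.left.ker = f.left.ker := by
    rw [← hfac, Over.comp_left, Scheme.Hom.ker_comp, Scheme.Hom.ker_eq_bot f'.left,
      Scheme.IdealSheafData.map_bot]
  have key : ∀ s, ∃ ψ : (Q s).X ⟶ Red.bc (v s) K, IsIso ψ ∧ ψ ≫ (Over.pullback (v s)).map i = j s ∧
      (Over.pullback (v s)).map f' = q s ≫ ψ := fun s => by
    haveI := hqf s; haveI := hqs s; haveI := hqc s; haveI := hjc s
    obtain ⟨ψ, h1, h2, h3⟩ := exists_comparison f i hker (v s) (q s) (j s) (hqj s)
    exact ⟨ψ, h1, h2, h3 f' hfac⟩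
  choose ψ hψ hψi hψf using key
  have hloc : ∀ (Pr : MorphismProperty Scheme.{u}) [IsZariskiLocalAtTarget Pr],
      (∀ s, Pr ((Over.pullback (v s)).map f').left) → Pr f'.left := by
    intro Pr _ hall
    refine IsZariskiLocalAtTarget.of_openCover (P := Pr) (𝒰.pullback₁ K.hom) fun s => ?_
    have h1 := hall s
    have hsq := (isPullback_bc_map f' (v s)).flip
    rw [← hsq.isoPullback_hom_snd, MorphismProperty.cancel_left_of_respectsIso (P := Pr)] at h1
    exact h1
  refine ⟨K, inferInstance, i, f', hi, hf', hfac, hic, hloc @Flat fun s => ?_, hloc @Surjective fun s => ?_,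
    fun s => ⟨U s, v s, Q s, hv s, hs s, hP s, ?_⟩⟩
  · haveI := hqf s; haveI := hψ s
    haveI : IsIso (ψ s).left := inferInstanceAs (IsIso ((Over.forget _).map (ψ s)))
    rw [hψf s, Over.comp_left]
    infer_instance
  · haveI := hqs s; haveI := hψ s
    haveI : IsIso (ψ s).left := inferInstanceAs (IsIso ((Over.forget _).map (ψ s)))
    rw [hψf s, Over.comp_left]
    infer_instance
  · haveI := hψ s
    haveI := hjh s
    let iU : Red.bc (v s) K ⟶ Red.bc (v s) G := (Over.pullback (v s)).map i
    haveI : IsMonHom iU := isMonHom_bcMap _ i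
    haveI : IsClosedImmersion iU.left := MorphismProperty.overPullbackMap (P := @IsClosedImmersion) _ _ hic
    haveI : Mono iU := Over.mono_of_mono_left _
    haveI : IsMonHom (ψ s) := by
      refine isMonHom_of_mul _ fun a b => ?_
      rw [← cancel_mono iU, Category.assoc, MonObj.mul_comp _ _ iU, Category.assoc, Category.assoc,
        show ψ s ≫ iU = j s from hψi s, MonObj.mul_comp]
    exact ⟨(Grp.mkIso' (asIso (ψ s))).symm⟩

end Groth.Agent.H21Quot
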